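import Cfsg.Agent.PGroup.Frattini
import Cfsg.Agent.PGroup.Commutator
import Cfsg.Agent.Eq.Def_Transfer

/-!
# Lemmas for the structure theorem on `p`-groups of symplectic type
-/

set_option autoImplicit false

namespace CfsgLib.SymplecticHall

open scoped commutatorElement

variable {G : Type*} [Group G]

theorem characteristic_of_forall (H : Subgroup G) (h : ∀ φ : MulAut G, ∀ x ∈ H, φ x ∈ H) :
    H.Characteristic :=
  Subgroup.characteristic_iff_map_le.mpr fun φ => by
    rintro _ ⟨x, hx, rfl⟩
    exact h φ x hx

theorem map_mem_centralizer {H : Subgroup G} (h : ∀ φ : MulAut G, ∀ x ∈ H, φ x ∈ H) (φ : MulAut G)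
    {x : G} (hx : x ∈ Subgroup.centralizer (H : Set G)) : φ x ∈ Subgroup.centralizer (H : Set G) := by
  rw [Subgroup.mem_centralizer_iff]
  intro y hy
  have h' := Subgroup.mem_centralizer_iff.mp hx _ (h φ⁻¹ y hy)
  simpa using congrArg φ h'

/-- In a finite cyclic group an element lies in the subgroup generated by any element whose order
is a multiple of its own. -/
theorem mem_zpowers_of_dvd {A : Type*} [Group A] [Finite A] [IsCyclic A] {x y : A}
    (h : orderOf x ∣ orderOf y) : x ∈ Subgroup.zpowers y := by
  classical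
  haveI : Fintype A := Fintype.ofFinite A
  have hsub : (Finset.univ.filter fun z : A => z ∈ Subgroup.zpowers y) ⊆
      Finset.univ.filter fun z : A => z ^ orderOf y = 1 := by
    intro z hz
    simp only [Finset.mem_filter, Finset.mem_univ, true_and] at hz ⊢
    exact orderOf_dvd_iff_pow_eq_one.mp
      ((orderOf_dvd_of_mem_zpowers hz))
  have hcard : (Finset.univ.filter fun z : A => z ∈ Subgroup.zpowers y).card = orderOf y := by
    rw [← Nat.card_zpowers y, Nat.card_eq_fintype_card, Fintype.card_subtype]
  have heq := Finset.eq_of_subset_of_card_le hsub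
    (le_of_le_of_eq (IsCyclic.card_pow_eq_one_le (orderOf_pos y)) hcard.symm)
  have hx : x ∈ Finset.univ.filter fun z : A => z ^ orderOf y = 1 := by
    simp [orderOf_dvd_iff_pow_eq_one.mp h]
  rw [← heq] at hx
  simpa using hx

variable [Finite G] {p : ℕ} [Fact p.Prime]

/-- An element with commutators in a central subgroup of order `p` has at most `p` conjugates. -/
theorem index_centralizer_le (Z : Subgroup G) (hZ : Z ≤ Subgroup.center G) (hcard : Nat.card Z = p)
    (t : G) (h : ∀ g : G, ⁅g, t⁆ ∈ Z) : (Subgroup.centralizer ({t} : Set G)).index ≤ p := by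
  let f : G →* Z :=
    { toFun := fun g => ⟨⁅g, t⁆, h g⟩
      map_one' := Subtype.ext (commutatorElement_one_left t)
      map_mul' := fun a b => Subtype.ext (by
        show ⁅a * b, t⁆ = ⁅a, t⁆ * ⁅b, t⁆
        rw [show ⁅a * b, t⁆ = a * ⁅b, t⁆ * a⁻¹ * ⁅a, t⁆ by simp only [commutatorElement_def]; group,
          Subgroup.mem_center_iff.mp (hZ (h b)) a, mul_inv_cancel_right,
          Subgroup.mem_center_iff.mp (hZ (h a)) _]) }
  have hker : f.ker = Subgroup.centralizer ({t} : Set G) := by
    ext g
    rw [MonoidHom.mem_ker, Subgroup.mem_centralizer_singleton_iff, Subtype.ext_iff]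
    exact commutatorElement_eq_one_iff_mul_comm
  rw [← hker, Subgroup.index_ker, ← hcard]
  exact Subgroup.card_le_card_group _

theorem index_centralizer_mul_card_le (hG : IsPGroup p G) (Z₀ : Subgroup G)
    (hZ : Z₀ ≤ Subgroup.center G) :
    ∀ (m : ℕ) (T : Subgroup G), Nat.card T ≤ m → Z₀ ≤ T →
      (∀ t ∈ T, (Subgroup.centralizer ({t} : Set G)).index ≤ p) →
      (Subgroup.centralizer (T : Set G)).index * Nat.card Z₀ ≤ Nat.card T := by
  intro m
  induction m with
  | zero =>
    intro T hT
    have : 0 < Nat.card T := Nat.card_pos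
    omega
  | succ m ih =>
    intro T hT hle ht
    by_cases heq : T = Z₀
    · subst heq
      have : Subgroup.centralizer (T : Set G) = ⊤ := by
        rw [eq_top_iff]
        intro g _
        exact Subgroup.mem_centralizer_iff.mpr fun z hz => (Subgroup.mem_center_iff.mp (hZ hz) g).symm
      rw [this, Subgroup.index_top, one_mul]
    obtain ⟨K, hZK, hKT, hmax⟩ := Finite.exists_le_maximal (p := fun K : Subgroup G => K < T)
      (show Z₀ < T from lt_of_le_of_ne hle (Ne.symm heq))
    have hco : IsCoatom (K.subgroupOf T) := by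
      refine ⟨fun h => hKT.2 ?_, fun M hM => ?_⟩
      · exact Subgroup.subgroupOf_eq_top.mp h
      · by_contra hMtop
        have h1 : M.map T.subtype < T := by
          refine lt_of_le_of_ne (Subgroup.map_subtype_le M) fun h => hMtop ?_
          rw [eq_top_iff]
          intro x _
          obtain ⟨y, hy, hyx⟩ : (x : G) ∈ M.map T.subtype := h.symm ▸ x.2
          exact (Subtype.ext hyx : y = x) ▸ hy
        have h2 : K ≤ M.map T.subtype := fun x hx =>
          ⟨⟨x, hKT.1 hx⟩, hM.le (Subgroup.mem_subgroupOf.mpr hx), rfl⟩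
        have h3 : M ≤ K.subgroupOf T := fun x hx => hmax h1 h2 ⟨x, hx, rfl⟩
        exact hM.not_ge h3
    have hidx := CfsgLib.PGroup.index_of_coatom (hG.to_subgroup T) hco
    have hcard : Nat.card T = p * Nat.card K := by
      rw [← Subgroup.card_mul_index (K.subgroupOf T), hidx,
        Nat.card_congr (Subgroup.subgroupOfEquivOfLe hKT.1).toEquiv, mul_comm]
    obtain ⟨t, htT, htK⟩ := SetLike.exists_of_lt hKT
    have hgen : T ≤ K ⊔ Subgroup.zpowers t := by
      by_contra hnot
      have hlt : K ⊔ Subgroup.zpowers t < T :=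
        lt_of_le_of_ne (sup_le hKT.1 (Subgroup.zpowers_le.mpr htT)) fun h => hnot h.symm.le
      exact htK (hmax hlt le_sup_left (Subgroup.mem_sup_right (Subgroup.mem_zpowers t)))
    have hCle : Subgroup.centralizer (K : Set G) ⊓ Subgroup.centralizer ({t} : Set G) ≤
        Subgroup.centralizer (T : Set G) := by
      intro g hg
      have h1 : K ⊔ Subgroup.zpowers t ≤ Subgroup.centralizer ({g} : Set G) :=
        sup_le (fun k hk => Subgroup.mem_centralizer_singleton_iff.mpr
          (Subgroup.mem_centralizer_iff.mp hg.1 k hk))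
          (Subgroup.zpowers_le.mpr (Subgroup.mem_centralizer_singleton_iff.mpr
            (Subgroup.mem_centralizer_singleton_iff.mp hg.2).symm))
      exact Subgroup.mem_centralizer_iff.mpr fun x hx =>
        Subgroup.mem_centralizer_singleton_iff.mp (h1 (hgen hx))
    have h1 := ih K (by
      have h2 : 2 ≤ p := (Fact.out : p.Prime).two_le
      have hpos : 0 < Nat.card K := Nat.card_pos
      nlinarith) hZK fun s hs => ht s (hKT.1 hs)
    have h2 : (Subgroup.centralizer (T : Set G)).index ≤
        (Subgroup.centralizer (K : Set G)).index * p :=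
      (Nat.le_of_dvd (Nat.pos_of_ne_zero Subgroup.index_ne_zero_of_finite)
        (Subgroup.index_dvd_of_le hCle)).trans
        (Subgroup.index_inf_le.trans (Nat.mul_le_mul le_rfl (ht t htT)))
    calc (Subgroup.centralizer (T : Set G)).index * Nat.card Z₀
        ≤ (Subgroup.centralizer (K : Set G)).index * p * Nat.card Z₀ := Nat.mul_le_mul h2 le_rfl
      _ = p * ((Subgroup.centralizer (K : Set G)).index * Nat.card Z₀) := by ring
      _ ≤ p * Nat.card K := Nat.mul_le_mul le_rfl h1
      _ = Nat.card T := hcard.symm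

/-- A normal subgroup whose elements have at most `p` conjugates, meeting its centraliser in a
central subgroup, splits off its centraliser. -/
theorem sup_centralizer_eq_top (hG : IsPGroup p G) (E : Subgroup G) [E.Normal] (Z₀ : Subgroup G)
    (hZ : Z₀ ≤ Subgroup.center G) (hinf : Subgroup.centralizer (E : Set G) ⊓ E = Z₀)
    (ht : ∀ t ∈ E, (Subgroup.centralizer ({t} : Set G)).index ≤ p) :
    E ⊔ Subgroup.centralizer (E : Set G) = ⊤ := by
  have h1 := index_centralizer_mul_card_le hG Z₀ hZ _ E le_rfl (hinf ▸ inf_le_right) ht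
  set C := Subgroup.centralizer (E : Set G) with hC
  have h2 : C.relIndex E * Nat.card Z₀ = Nat.card E := by
    rw [← hinf, Subgroup.relIndex, ← Subgroup.index_mul_card (C.subgroupOf E)]
    congr 1
    rw [← Nat.card_congr (Subgroup.subgroupOfEquivOfLe (inf_le_right : C ⊓ E ≤ E)).toEquiv,
      Subgroup.inf_subgroupOf_right]
  have h3 : C.index ≤ C.relIndex E := by
    have : C.index * Nat.card Z₀ ≤ C.relIndex E * Nat.card Z₀ := h2 ▸ h1
    exact Nat.le_of_mul_le_mul_right this Nat.card_pos
  have h4 : C.relIndex (E ⊔ C) = C.relIndex E := Subgroup.relIndex_sup_right E C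
  have h5 : C.relIndex (E ⊔ C) * (E ⊔ C).index = C.index :=
    Subgroup.relIndex_mul_index le_sup_right
  have h6 : (E ⊔ C).index = 1 := by
    have hpos : 0 < C.index := Nat.pos_of_ne_zero Subgroup.index_ne_zero_of_finite
    have hpos' : (E ⊔ C).index ≠ 0 := Subgroup.index_ne_zero_of_finite
    rw [h4] at h5
    nlinarith [Nat.pos_of_ne_zero hpos']
  exact Subgroup.index_eq_one.mp h6

/-- A nonabelian `p`-group with centre of order `p` containing all `p`-th powers and all
commutators is extraspecial. -/
theorem isExtraspecial_of_center (hG : IsPGroup p G) (hc : Nat.card (Subgroup.center G) = p)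
    (hpow : ∀ a : G, a ^ p ∈ Subgroup.center G) (hcomm : ∀ a b : G, ⁅a, b⁆ ∈ Subgroup.center G)
    (hna : ¬ ∀ a b : G, a * b = b * a) : Cfsg.IsExtraspecial p G := by
  have hcl : commutator G ≤ Subgroup.center G :=
    CfsgLib.PGroup.commutatorElement_mem_center_iff_commutator_le.mp hcomm
  have hne : commutator G ≠ ⊥ := fun h => hna fun a b => commutatorElement_eq_one_iff_mul_comm.mp
    (Subgroup.mem_bot.mp (h ▸ Subgroup.commutator_mem_commutator trivial trivial))
  have hceq : commutator G = Subgroup.center G := by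
    refine Subgroup.eq_of_le_of_card_ge hcl ?_
    obtain ⟨k, hk⟩ := IsPGroup.iff_card.mp (hG.to_subgroup (commutator G))
    rw [hc, hk]
    refine Nat.le_self_pow (fun h0 => hne ?_) p
    rw [h0, pow_zero] at hk
    exact Subgroup.card_eq_one.mp hk
  refine ⟨⟨hG, le_antisymm ?_ ?_, hceq⟩, hc⟩
  · rw [CfsgLib.PGroup.frattini_eq_commutator_sup hG]
    exact sup_le hcl ((Subgroup.closure_le _).mpr fun x ⟨a, ha⟩ => ha ▸ hpow a)
  · rw [← hceq]
    exact CfsgLib.PGroup.commutator_le_frattini hG

end CfsgLib.SymplecticHall
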